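import Groth.Agent.H16Derived.KoszulPow
import Groth.Prelude.Def_DRing2
import Mathlib.Algebra.Category.ModuleCat.Monoidal.Basic
import Mathlib.Algebra.Homology.Monoidal

/-!
# Tensor products with mapping cones; tensor products of Koszul complexes
-/

set_option autoImplicit false
set_option linter.style.haveILetI false
universe u

open CategoryTheory CategoryTheory.Limits MonoidalCategory CochainComplex CochainComplex.HomComplex

namespace Groth.Agent.H4Koszul

variable {A : Type u} [CommRing A]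


variable {K K' : DRing.Cx A} (φ : K ⟶ K') (L : DRing.Cx A)

/-- The tensor product of complexes. -/
noncomputable abbrev tens (K L : DRing.Cx A) : DRing.Cx A := HomologicalComplex.tensorObj K L

/-- The morphism `φ ⊗ L`. -/
noncomputable abbrev whisk : tens K L ⟶ tens K' L := HomologicalComplex.tensorHom φ (𝟙 L)

/-- The homotopy component of the comparison map. -/
noncomputable def coneCochain : Cochain (tens K L) (tens (mappingCone φ) L) (-1) :=
  Cochain.mk fun n q hnq => HomologicalComplex.mapBifunctorDesc fun i₁ i₂ (h : i₁ + i₂ = n) =>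
    ((mappingCone.inl φ).v i₁ (i₁ - 1) (by omega) ▷ L.X i₂) ≫
      HomologicalComplex.ιTensorObj (mappingCone φ) L (i₁ - 1) i₂ q (by omega)

theorem ι_coneCochain (i₁ i₂ n q : ℤ) (h : i₁ + i₂ = n) (hnq : n + (-1) = q) (p : ℤ) (hp : i₁ + (-1) = p) :
    HomologicalComplex.ιTensorObj K L i₁ i₂ n h ≫ (coneCochain φ L).v n q hnq =
      ((mappingCone.inl φ).v i₁ p hp ▷ L.X i₂) ≫
        HomologicalComplex.ιTensorObj (mappingCone φ) L p i₂ q (by omega) := by
  obtain rfl : p = i₁ - 1 := by omega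
  simp only [coneCochain, Cochain.mk_v]
  exact HomologicalComplex.ι_mapBifunctorDesc _ _ _ _

theorem ι_tens_d {P : DRing.Cx A} (i₁ i₁' i₂ n m : ℤ) (hi : i₁ + 1 = i₁') (h : i₁ + i₂ = n) (hnm : n + 1 = m) :
    HomologicalComplex.ιTensorObj P L i₁ i₂ n h ≫ (tens P L).d n m =
      (P.d i₁ i₁' ▷ L.X i₂) ≫ HomologicalComplex.ιTensorObj P L i₁' i₂ m (by omega) +
      i₁.negOnePow • ((P.X i₁ ◁ L.d i₂ (i₂ + 1)) ≫ HomologicalComplex.ιTensorObj P L i₁ (i₂ + 1) m (by omega)) := by
  subst hi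
  rw [HomologicalComplex.mapBifunctor.d_eq, Preadditive.comp_add,
    HomologicalComplex.mapBifunctor.ι_D₁, HomologicalComplex.mapBifunctor.ι_D₂,
    HomologicalComplex.mapBifunctor.d₁_eq _ _ _ _ (show (ComplexShape.up ℤ).Rel i₁ (i₁ + 1) from rfl) _ _ (show (i₁ + 1) + i₂ = m by omega),
    HomologicalComplex.mapBifunctor.d₂_eq _ _ _ _ _ (show (ComplexShape.up ℤ).Rel i₂ (i₂ + 1) from rfl) _ (show i₁ + (i₂ + 1) = m by omega),
    ]
  exact congrArg₂ (· + ·) (one_smul ℤˣ _) rfl

@[reassoc]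
theorem ι_whisk {P Q : DRing.Cx A} (ψ : P ⟶ Q) (i₁ i₂ n : ℤ) (h : i₁ + i₂ = n) :
    HomologicalComplex.ιTensorObj P L i₁ i₂ n h ≫ (whisk ψ L).f n =
      (ψ.f i₁ ▷ L.X i₂) ≫ HomologicalComplex.ιTensorObj Q L i₁ i₂ n h := by
  rw [HomologicalComplex.ι_mapBifunctorMap]
  show _ ≫ (Q.X i₁ ◁ 𝟙 (L.X i₂)) ≫ _ = _
  rw [whiskerLeft_id, Category.id_comp]
  rfl

theorem δ_coneCochain :
    δ (-1) 0 (coneCochain φ L) = Cochain.ofHom (whisk φ L ≫ whisk (mappingCone.inr φ) L) := by
  refine Cochain.ext₀ _ _ fun n => ?_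
  rw [δ_v (-1) 0 (neg_add_cancel 1) _ n n (add_zero n) (n - 1) (n + 1) rfl rfl, Cochain.ofHom_v]
  refine HomologicalComplex.mapBifunctor.hom_ext fun i₁ i₂ (h : i₁ + i₂ = n) => ?_
  rw [Preadditive.comp_add, Int.negOnePow_zero, one_smul]
  rw [← Category.assoc, ι_coneCochain φ L i₁ i₂ n (n - 1) h (by omega) (i₁ - 1) (by omega), Category.assoc,
    ι_tens_d L (i₁ - 1) i₁ i₂ (n - 1) n (sub_add_cancel i₁ 1) (by omega) (sub_add_cancel n 1)]
  rw [← Category.assoc (HomologicalComplex.ιMapBifunctor _ _ _ _ _ _ _ _), ι_tens_d L i₁ (i₁ + 1) i₂ n (n + 1) rfl h rfl, Preadditive.add_comp,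
    Linear.units_smul_comp, Category.assoc, Category.assoc,
    ι_coneCochain φ L (i₁ + 1) i₂ (n + 1) n (by omega) (by omega) i₁ (by omega),
    ι_coneCochain φ L i₁ (i₂ + 1) (n + 1) n (by omega) (by omega) (i₁ - 1) (by omega)]
  rw [Preadditive.comp_add, Linear.comp_units_smul]
  have hd := δ_v (-1) 0 (neg_add_cancel 1) (mappingCone.inl φ) i₁ i₁ (add_zero i₁) (i₁ - 1) (i₁ + 1) rfl rfl
  rw [mappingCone.δ_inl, Cochain.ofHom_v, HomologicalComplex.comp_f, Int.negOnePow_zero, one_smul] at hd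
  rw [HomologicalComplex.comp_f, ι_whisk_assoc L φ i₁ i₂ n h, ι_whisk L (mappingCone.inr φ) i₁ i₂ n h]
  rw [show (i₁ - 1).negOnePow = -i₁.negOnePow by rw [Int.negOnePow_sub, Int.negOnePow_one, mul_neg, mul_one]]
  simp only [← Category.assoc, ← comp_whiskerRight, whisker_exchange]
  rw [hd, MonoidalPreadditive.add_whiskerRight, Preadditive.add_comp]
  simp only [← Category.assoc, Units.neg_smul]
  abel

/-- The comparison map `cone (φ ⊗ L) ⟶ cone φ ⊗ L`. -/
noncomputable def coneTens : mappingCone (whisk φ L) ⟶ tens (mappingCone φ) L :=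
  mappingCone.desc (whisk φ L) (coneCochain φ L) (whisk (mappingCone.inr φ) L) (δ_coneCochain φ L)

/-- The inverse in each degree. -/
noncomputable def coneTensInv (n : ℤ) : (tens (mappingCone φ) L).X n ⟶ (mappingCone (whisk φ L)).X n :=
  HomologicalComplex.mapBifunctorDesc fun i₁ i₂ (h : i₁ + i₂ = n) =>
    ((mappingCone.fst φ).1.v i₁ (i₁ + 1) rfl ▷ L.X i₂) ≫ HomologicalComplex.ιTensorObj K L (i₁ + 1) i₂ (n + 1) (by omega) ≫
        (mappingCone.inl (whisk φ L)).v (n + 1) n (by omega) +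
      ((mappingCone.snd φ).v i₁ i₁ (add_zero i₁) ▷ L.X i₂) ≫ HomologicalComplex.ιTensorObj K' L i₁ i₂ n h ≫
        (mappingCone.inr (whisk φ L)).f n

theorem isIso_coneTens : IsIso (coneTens φ L) := by
  have : ∀ n, IsIso ((coneTens φ L).f n) := fun n => by
    refine ⟨coneTensInv φ L n, ?_, ?_⟩
    · refine (mappingCone.ext_from_iff (whisk φ L) (n + 1) n rfl _ _).2 ⟨?_, ?_⟩
      · rw [Category.comp_id, coneTens, ← Category.assoc, mappingCone.inl_v_desc_f]
        refine HomologicalComplex.mapBifunctor.hom_ext fun i₁ i₂ (h : i₁ + i₂ = n + 1) => ?_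
        obtain ⟨j, rfl⟩ : ∃ j, i₁ = j + 1 := ⟨i₁ - 1, by omega⟩
        rw [← Category.assoc, ι_coneCochain φ L (j + 1) i₂ (n + 1) n h (by omega) j (by omega), Category.assoc,
          coneTensInv, HomologicalComplex.ι_mapBifunctorDesc, Preadditive.comp_add]
        simp only [← Category.assoc, ← comp_whiskerRight, Category.comp_id]
        rw [mappingCone.inl_v_snd_v, MonoidalPreadditive.zero_whiskerRight, zero_comp, zero_comp, add_zero]
        rw [mappingCone.inl_v_fst_v, id_whiskerRight]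
        exact congrArg (· ≫ (mappingCone.inl (whisk φ L)).v (n + 1) n (by omega)) (Category.id_comp _)
      · rw [Category.comp_id, coneTens, ← Category.assoc, mappingCone.inr_f_desc_f]
        refine HomologicalComplex.mapBifunctor.hom_ext fun i₁ i₂ (h : i₁ + i₂ = n) => ?_
        rw [ι_whisk_assoc L (mappingCone.inr φ) i₁ i₂ n h, coneTensInv, HomologicalComplex.ι_mapBifunctorDesc,
          Preadditive.comp_add]
        simp only [← Category.assoc, ← comp_whiskerRight, Category.comp_id]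
        rw [mappingCone.inr_f_fst_v, mappingCone.inr_f_snd_v, MonoidalPreadditive.zero_whiskerRight, zero_comp, zero_comp, zero_add,
          id_whiskerRight, Category.id_comp]
    · refine HomologicalComplex.mapBifunctor.hom_ext fun i₁ i₂ (h : i₁ + i₂ = n) => ?_
      rw [Category.comp_id, coneTensInv, HomologicalComplex.ι_mapBifunctorDesc_assoc, Preadditive.add_comp]
      simp only [Category.assoc, coneTens, mappingCone.inl_v_desc_f, mappingCone.inr_f_desc_f]
      rw [ι_coneCochain φ L (i₁ + 1) i₂ (n + 1) n (by omega) (by omega) i₁ (by omega)]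
      rw [ι_whisk L (mappingCone.inr φ) i₁ i₂ n h]
      simp only [← Category.assoc, ← comp_whiskerRight, Category.comp_id]
      rw [← Preadditive.add_comp, ← MonoidalPreadditive.add_whiskerRight, mappingCone.id_X, id_whiskerRight]
      exact Category.id_comp _
  exact HomologicalComplex.Hom.isIso_of_components _

theorem whisk_smul (a : A) (K L : DRing.Cx A) : whisk (a • 𝟙 K) L = a • 𝟙 (tens K L) := by
  ext1 n
  refine HomologicalComplex.mapBifunctor.hom_ext fun i₁ i₂ (h : i₁ + i₂ = n) => ?_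
  rw [ι_whisk L (a • 𝟙 K) i₁ i₂ n h]
  show (a • 𝟙 (K.X i₁)) ▷ L.X i₂ ≫ HomologicalComplex.ιTensorObj K L i₁ i₂ n h = HomologicalComplex.ιTensorObj K L i₁ i₂ n h ≫ (a • 𝟙 ((tens K L).X n))
  rw [MonoidalLinear.smul_whiskerRight, id_whiskerRight, Linear.smul_comp, Linear.comp_smul, Category.comp_id]
  exact congrArg (a • ·) (Category.id_comp _)

theorem cone_smul_iso {K K' : DRing.Cx A} (a : A) (e : K ≅ K') :
    Nonempty (mappingCone (a • 𝟙 K) ≅ mappingCone (a • 𝟙 K')) := by
  refine ⟨⟨mappingCone.map _ _ e.hom e.hom (by simp), mappingCone.map _ _ e.inv e.inv (by simp), ?_, ?_⟩⟩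
  · rw [← mappingCone.map_comp]
    simp only [e.hom_inv_id]
    exact mappingCone.map_id _
  · rw [← mappingCone.map_comp]
    simp only [e.inv_hom_id]
    exact mappingCone.map_id _

theorem koszul_tensor (g : List A) : ∀ f : List A,
    Nonempty (tens (Koszul.koszul A f) (Koszul.koszul A g) ≅ Koszul.koszul A (f ++ g))
  | [] => ⟨HomologicalComplex.leftUnitor (Koszul.koszul A g)⟩
  | a :: f => by
    obtain ⟨e⟩ := koszul_tensor g f
    haveI := isIso_coneTens (a • 𝟙 (Koszul.koszul A f)) (Koszul.koszul A g)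
    obtain ⟨e'⟩ := cone_smul_iso a e
    exact ⟨(asIso (coneTens (a • 𝟙 (Koszul.koszul A f)) (Koszul.koszul A g))).symm ≪≫
      eqToIso (by rw [whisk_smul]) ≪≫ e'⟩

end Groth.Agent.H4Koszul
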