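import Groth.Agent.H16Derived.KoszulPow
import Groth.Agent.H02CA.Kosz
import Groth.Prelude.Def_DRing2
import Mathlib.Data.Finset.Option

/-!
# Koszul homology after appending elements of the ideal of the sequence
-/

set_option autoImplicit false
set_option linter.style.haveILetI false
universe u

open CategoryTheory CategoryTheory.Limits CochainComplex
open Groth.Agent.H8Props.PseudoCoh

namespace Groth.Agent.H4Koszul

variable {A : Type u} [CommRing A]

theorem koszul_eq_koszulCx : ∀ l : List A, Koszul.koszul A l = CohIII.koszulCx (ModuleCat.of A A) l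
  | [] => rfl
  | f :: l => by
    show mappingCone (f • 𝟙 (Koszul.koszul A l)) = mappingCone (f • 𝟙 (CohIII.koszulCx (ModuleCat.of A A) l))
    rw [koszul_eq_koszulCx l]

theorem nonempty_homotopy_smul {l : List A} {y : A} (hy : y ∈ Ideal.span {a | a ∈ l}) :
    Nonempty (Homotopy (y • 𝟙 (Koszul.koszul A l)) 0) := by
  rw [koszul_eq_koszulCx l]
  exact H02CA.Kosz.nonempty_homotopy _ hy

theorem cone_homology_of_null {L : CochainComplex (ModuleCat.{u} A) ℤ} (φ : L ⟶ L) (h : Homotopy φ 0) (m : ℤ) :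
    Nonempty ((mappingCone φ).homology m ≅ ModuleCat.of A (L.homology (m + 1) × L.homology m)) := by
  let C := mappingCone φ
  let c : ∀ i, C.X i ≃ₗ[A] L.X (i + 1) × L.X i := fun i => coneXEquiv φ i (i + 1) rfl
  have hφ : ∀ (i : ℤ) (a : L.X (i + 1)),
      φ.f (i + 1) a = h.hom (i + 1 + 1) (i + 1) (L.d (i + 1) (i + 1 + 1) a) + L.d i (i + 1) (h.hom (i + 1) i a) := by
    intro i a
    have := congr($(h.comm (i + 1)).hom a)
    rw [dNext_eq h.hom (show (ComplexShape.up ℤ).Rel (i + 1) (i + 1 + 1) from rfl),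
      prevD_eq h.hom (show (ComplexShape.up ℤ).Rel i (i + 1) from rfl)] at this
    simpa using this
  have hd : ∀ (i : ℤ) (x : C.X i), c (i + 1) (C.d i (i + 1) x) =
      (-(L.d (i + 1) (i + 1 + 1) (c i x).1), φ.f (i + 1) (c i x).1 + L.d i (i + 1) (c i x).2) := fun i x => by
    refine Prod.ext ?_ (snd_d φ i (i + 1) rfl x)
    exact congr($(mappingCone.d_fst_v φ i (i + 1) (i + 1 + 1) rfl rfl).hom x)
  -- change coordinates by the homotopy
  let t : ∀ i, C.X i ≃ₗ[A] L.X (i + 1) × L.X i := fun i => (c i).trans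
    { toFun := fun v => (v.1, v.2 + h.hom (i + 1) i v.1)
      invFun := fun v => (v.1, v.2 - h.hom (i + 1) i v.1)
      left_inv := fun v => by simp
      right_inv := fun v => by simp
      map_add' := fun v w => by simp only [Prod.fst_add, Prod.snd_add, map_add, Prod.mk_add_mk]; congr 1; abel
      map_smul' := fun r v => by simp }
  have ht : ∀ (i : ℤ) (x : C.X i), t (i + 1) (C.d i (i + 1) x) =
      (-(L.d (i + 1) (i + 1 + 1) (t i x).1), L.d i (i + 1) (t i x).2) := fun i x => by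
    show ((c (i + 1) (C.d i (i + 1) x)).1, (c (i + 1) (C.d i (i + 1) x)).2 + h.hom (i + 1 + 1) (i + 1) (c (i + 1) (C.d i (i + 1) x)).1) = _
    rw [hd]
    refine Prod.ext rfl ?_
    show φ.f (i + 1) (c i x).1 + L.d i (i + 1) (c i x).2 + h.hom (i + 1 + 1) (i + 1) (-(L.d (i + 1) (i + 1 + 1) (c i x).1)) =
      L.d i (i + 1) ((c i x).2 + h.hom (i + 1) i (c i x).1)
    rw [hφ, map_neg, map_add]
    abel
  let S₁ := L.sc' m (m + 1) (m + 1 + 1)
  let S₀ := L.sc' (m - 1) m (m + 1)
  let Sc := C.sc' (m - 1) m (m + 1)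
  let e₁ : L.homology (m + 1) ≅ S₁.moduleCatLeftHomologyData.H :=
    L.homologyIsoSc' m (m + 1) (m + 1 + 1) (by simp) (by simp) ≪≫ S₁.moduleCatHomologyIso
  let e₀ : L.homology m ≅ S₀.moduleCatLeftHomologyData.H :=
    L.homologyIsoSc' (m - 1) m (m + 1) (by simp) (by simp) ≪≫ S₀.moduleCatHomologyIso
  have hz : ∀ x : LinearMap.ker Sc.g.hom, (t m x.1).1 ∈ LinearMap.ker S₁.g.hom ∧ (t m x.1).2 ∈ LinearMap.ker S₀.g.hom := by
    rintro ⟨x, hx⟩
    have h1 := (ht m x).symm.trans ((congrArg (t (m + 1)) hx).trans (map_zero _))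
    exact ⟨neg_eq_zero.1 (congrArg Prod.fst h1), congrArg Prod.snd h1⟩
  let π₁ : LinearMap.ker S₁.g.hom →ₗ[A] L.homology (m + 1) := e₁.inv.hom ∘ₗ Submodule.mkQ (LinearMap.range S₁.moduleCatToCycles)
  let π₀ : LinearMap.ker S₀.g.hom →ₗ[A] L.homology m := e₀.inv.hom ∘ₗ Submodule.mkQ (LinearMap.range S₀.moduleCatToCycles)
  let Φ : LinearMap.ker Sc.g.hom →ₗ[A] L.homology (m + 1) × L.homology m :=
    LinearMap.prod
      (π₁ ∘ₗ LinearMap.codRestrict _ (LinearMap.fst A _ _ ∘ₗ (t m).toLinearMap ∘ₗ (LinearMap.ker Sc.g.hom).subtype) fun x => (hz x).1)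
      (π₀ ∘ₗ LinearMap.codRestrict _ (LinearMap.snd A _ _ ∘ₗ (t m).toLinearMap ∘ₗ (LinearMap.ker Sc.g.hom).subtype) fun x => (hz x).2)
  have hΦ : Function.Surjective Φ := by
    intro p
    obtain ⟨a, ha⟩ := (e₁.toLinearEquiv.symm.surjective.comp (Submodule.mkQ_surjective (LinearMap.range S₁.moduleCatToCycles))) p.1
    obtain ⟨b, hb⟩ := (e₀.toLinearEquiv.symm.surjective.comp (Submodule.mkQ_surjective (LinearMap.range S₀.moduleCatToCycles))) p.2
    have hk : (t m).symm (a.1, b.1) ∈ LinearMap.ker Sc.g.hom := by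
      refine (t (m + 1)).injective ((ht m _).trans ?_)
      rw [LinearEquiv.apply_symm_apply]
      exact (Prod.ext (neg_eq_zero.2 a.2) (show L.d m (m + 1) b.1 = 0 from b.2)).trans (map_zero (t (m + 1))).symm
    refine ⟨⟨_, hk⟩, Prod.ext (Eq.trans ?_ ha) (Eq.trans ?_ hb)⟩
    · exact congrArg π₁ (Subtype.ext (congrArg Prod.fst ((t m).apply_symm_apply (a.1, b.1))))
    · exact congrArg π₀ (Subtype.ext (congrArg Prod.snd ((t m).apply_symm_apply (a.1, b.1))))
  have hker : LinearMap.range Sc.moduleCatToCycles = LinearMap.ker Φ := by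
    ext x
    have key : Φ x = 0 ↔ (∃ a, L.d m (m + 1) a = (t m x.1).1) ∧ ∃ b, L.d (m - 1) m b = (t m x.1).2 := by
      rw [Prod.ext_iff]
      refine and_congr ?_ ?_
      · show e₁.toLinearEquiv.symm (Submodule.mkQ _ _) = 0 ↔ _
        refine (LinearEquiv.map_eq_zero_iff _).trans ((Submodule.Quotient.mk_eq_zero _).trans ?_)
        exact ⟨fun ⟨a, ha⟩ => ⟨a, congrArg Subtype.val ha⟩, fun ⟨a, ha⟩ => ⟨a, Subtype.ext ha⟩⟩
      · show e₀.toLinearEquiv.symm (Submodule.mkQ _ _) = 0 ↔ _
        refine (LinearEquiv.map_eq_zero_iff _).trans ((Submodule.Quotient.mk_eq_zero _).trans ?_)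
        exact ⟨fun ⟨a, ha⟩ => ⟨a, congrArg Subtype.val ha⟩, fun ⟨a, ha⟩ => ⟨a, Subtype.ext ha⟩⟩
    rw [LinearMap.mem_ker, key]
    have hm : ∀ j k : ℤ, j + 1 = k → ∀ v : C.X j,
        (∃ a, L.d k (k + 1) a = (t k (C.d j k v)).1) ∧ ∃ b, L.d j k b = (t k (C.d j k v)).2 := by
      rintro j k rfl v
      rw [ht]
      exact ⟨⟨-(t j v).1, by rw [map_neg]⟩, ⟨(t j v).2, rfl⟩⟩
    have hm' : ∀ j k : ℤ, j + 1 = k → ∀ y : C.X k, (∃ a, L.d k (k + 1) a = (t k y).1) →
        (∃ b, L.d j k b = (t k y).2) → ∃ v, C.d j k v = y := by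
      rintro j k rfl y ⟨a, ha⟩ ⟨b, hb⟩
      refine ⟨(t j).symm (-a, b), (t (j + 1)).injective ((ht j _).trans ?_)⟩
      rw [LinearEquiv.apply_symm_apply, map_neg, neg_neg]
      exact Prod.ext ha hb
    constructor
    · rintro ⟨v, rfl⟩
      exact hm (m - 1) m (sub_add_cancel m 1) v
    · rintro ⟨ha, hb⟩
      obtain ⟨v, hv⟩ := hm' (m - 1) m (sub_add_cancel m 1) x.1 ha hb
      exact ⟨v, Subtype.ext hv⟩
  exact ⟨C.homologyIsoSc' (m - 1) m (m + 1) (by simp) (by simp) ≪≫ Sc.moduleCatHomologyIso ≪≫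
    ((Submodule.quotEquivOfEq _ _ hker).trans (Φ.quotKerEquivOfSurjective hΦ)).toModuleIso⟩

/-- The value of a family at equal indices. -/
noncomputable def castEquiv (H : ℤ → ModuleCat.{u} A) {a b : ℤ} (h : a = b) : H a ≃ₗ[A] H b :=
  h ▸ LinearEquiv.refl A _

/-- Reindexing a product of a family of modules. -/
noncomputable def piReindex (H : ℤ → ModuleCat.{u} A) {ι κ : Type} (e : ι ≃ κ) (g : ι → ℤ) (g' : κ → ℤ)
    (hg : ∀ i, g' (e i) = g i) : ((i : ι) → H (g i)) ≃ₗ[A] ((k : κ) → H (g' k)) :=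
  (LinearEquiv.piCongrLeft' A (fun i => (H (g i) : Type u)) e).trans
    (LinearEquiv.piCongrRight fun k => castEquiv H (by rw [← hg (e.symm k), Equiv.apply_symm_apply]))

/-- Products over a disjoint union. -/
def piSum {ι κ : Type} (N : ι ⊕ κ → Type u) [∀ i, AddCommGroup (N i)] [∀ i, Module A (N i)] :
    (((i : ι) → N (Sum.inl i)) × ((k : κ) → N (Sum.inr k))) ≃ₗ[A] ((s : ι ⊕ κ) → N s) where
  toFun v s := match s with
    | Sum.inl i => v.1 i
    | Sum.inr k => v.2 k
  invFun f := (fun i => f (Sum.inl i), fun k => f (Sum.inr k))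
  map_add' v w := by ext (i | k) <;> rfl
  map_smul' r v := by ext (i | k) <;> rfl
  left_inv v := rfl
  right_inv f := by ext (i | k) <;> rfl

/-- Subsets of `Option α`. -/
def finsetOptionEquiv (α : Type) [DecidableEq α] : Finset α ⊕ Finset α ≃ Finset (Option α) where
  toFun s := match s with
    | Sum.inl t => Finset.insertNone t
    | Sum.inr t => t.map Function.Embedding.some
  invFun s := if none ∈ s then Sum.inl (Finset.eraseNone s) else Sum.inr (Finset.eraseNone s)
  left_inv s := by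
    rcases s with t | t <;> simp
  right_inv s := by
    by_cases h : none ∈ s
    · simp only [h, if_true]
      ext (_ | a) <;> simp [h]
    · simp only [h, if_false]
      ext (_ | a) <;> simp [h]

theorem tensorCx_cons (M : ModuleCat.{u} A) (y : A) (l : List A) :
    Nonempty (DRing.tensorCx (Koszul.koszul A (y :: l)) M ≅ mappingCone (y • 𝟙 (DRing.tensorCx (Koszul.koszul A l) M))) := by
  let F := MonoidalCategory.tensorRight M
  have h : (F.mapHomologicalComplex (ComplexShape.up ℤ)).map (y • 𝟙 (Koszul.koszul A l)) =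
      y • 𝟙 (DRing.tensorCx (Koszul.koszul A l) M) := by
    ext1 i
    show F.map (y • 𝟙 _) = y • 𝟙 _
    rw [F.map_smul, F.map_id]
    rfl
  exact ⟨mappingCone.mapHomologicalComplexIso (y • 𝟙 (Koszul.koszul A l)) F ≪≫ eqToIso (by rw [h]; rfl)⟩

theorem homology_prefix (M : ModuleCat.{u} A) (xs : List A) :
    ∀ (ys : List A), (∀ y ∈ ys, y ∈ Ideal.span {a | a ∈ xs}) → ∀ m : ℤ,
      Nonempty ((DRing.tensorCx (Koszul.koszul A (ys ++ xs)) M).homology m ≅ ModuleCat.of A
        ((s : Finset (Fin ys.length)) → (DRing.tensorCx (Koszul.koszul A xs) M).homology (m + s.card)))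
  | [], _, m => by
    let H : ℤ → ModuleCat.{u} A := fun n => (DRing.tensorCx (Koszul.koszul A xs) M).homology n
    haveI : Unique (Finset (Fin ([] : List A).length)) :=
      { default := ∅, uniq := fun s => Finset.eq_empty_iff_forall_notMem.2 fun i _ => Fin.elim0 i }
    let π := (LinearEquiv.piUnique A (fun s : Finset (Fin ([] : List A).length) => (H (m + s.card) : Type u))).symm
    haveI : IsEmpty (Fin ([] : List A).length) := ⟨fun i => Fin.elim0 i⟩
    exact ⟨((castEquiv H (by simp [Finset.eq_empty_of_isEmpty])).trans π).toModuleIso⟩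
  | y :: ys, hy, m => by
    classical
    obtain ⟨hom⟩ := nonempty_homotopy_smul (l := ys ++ xs) (y := y)
      (Ideal.span_mono (fun a ha => List.mem_append_right ys ha) (hy y List.mem_cons_self))
    let F := MonoidalCategory.tensorRight M
    obtain ⟨e⟩ := tensorCx_cons M y (ys ++ xs)
    have hh : Homotopy (y • 𝟙 (DRing.tensorCx (Koszul.koszul A (ys ++ xs)) M)) 0 := by
      refine ((Homotopy.ofEq ?_).trans (F.mapHomotopy hom)).trans (Homotopy.ofEq ?_)
      · ext1 i
        show y • 𝟙 _ = F.map (y • 𝟙 _)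
        rw [F.map_smul, F.map_id]
        rfl
      · exact (F.mapHomologicalComplex _).map_zero _ _
    obtain ⟨eC⟩ := cone_homology_of_null _ hh m
    obtain ⟨e1⟩ := homology_prefix M xs ys (fun z hz => hy z (List.mem_cons_of_mem _ hz)) (m + 1)
    obtain ⟨e0⟩ := homology_prefix M xs ys (fun z hz => hy z (List.mem_cons_of_mem _ hz)) m
    let H : ℤ → ModuleCat.{u} A := fun n => (DRing.tensorCx (Koszul.koszul A xs) M).homology n
    let g : Finset (Fin ys.length) ⊕ Finset (Fin ys.length) → ℤ :=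
      Sum.elim (fun s => m + 1 + s.card) (fun s => m + s.card)
    let ι : Finset (Fin ys.length) ⊕ Finset (Fin ys.length) ≃ Finset (Fin (y :: ys).length) :=
      (finsetOptionEquiv _).trans (finSuccEquiv ys.length).symm.finsetCongr
    have hg : ∀ s, m + ((ι s).card : ℤ) = g s := by
      rintro (s | s)
      · simp [ι, g, finsetOptionEquiv, Equiv.finsetCongr_apply]; ring
      · simp [ι, g, finsetOptionEquiv, Equiv.finsetCongr_apply]
    exact ⟨(HomologicalComplex.homologyFunctor _ _ m).mapIso e ≪≫ eC ≪≫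
      ((e1.toLinearEquiv.prodCongr e0.toLinearEquiv).trans
        ((piSum (fun s => (H (g s) : Type u))).trans (piReindex H ι g (fun s => m + s.card) hg))).toModuleIso⟩

theorem homology_append (M : ModuleCat.{u} A) (xs ys : List A) (hy : ∀ y ∈ ys, y ∈ Ideal.span {a | a ∈ xs}) (m : ℤ) :
    Nonempty ((DRing.tensorCx (Koszul.koszul A (xs ++ ys)) M).homology m ≅
      ModuleCat.of A ((j : Fin (ys.length + 1)) → Fin (ys.length.choose j) →
        (DRing.tensorCx (Koszul.koszul A xs) M).homology (m + j))) := by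
  classical
  obtain ⟨e, he⟩ := H16Derived.KoszulPow.kEq_of_perm (List.perm_append_comm (l₁ := xs) (l₂ := ys))
  let E : Koszul.koszul A (xs ++ ys) ≅ Koszul.koszul A (ys ++ xs) :=
    HomologicalComplex.Hom.isoOfComponents (fun i => (e i).toModuleIso) fun i j hij =>
      ModuleCat.hom_ext (LinearMap.ext fun x => (he i j hij x).symm)
  obtain ⟨P⟩ := homology_prefix M xs ys hy m
  let H : ℤ → ModuleCat.{u} A := fun n => (DRing.tensorCx (Koszul.koszul A xs) M).homology n
  let deg : Finset (Fin ys.length) → Fin (ys.length + 1) := fun s =>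
    ⟨s.card, Nat.lt_succ_of_le ((Finset.card_le_univ s).trans_eq (Fintype.card_fin _))⟩
  have hcard : ∀ j : Fin (ys.length + 1), Fintype.card {s // deg s = j} = ys.length.choose j := fun j => by
    rw [Fintype.card_congr (Equiv.subtypeEquivRight (q := fun s => s.card = (j : ℕ)) fun s => Fin.ext_iff),
      Fintype.card_finset_len, Fintype.card_fin]
  let ι : Finset (Fin ys.length) ≃ Σ j : Fin (ys.length + 1), Fin (ys.length.choose j) :=
    (Equiv.sigmaFiberEquiv deg).symm.trans (Equiv.sigmaCongrRight fun j => Fintype.equivFinOfCardEq (hcard j))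
  exact ⟨(HomologicalComplex.homologyFunctor _ _ m).mapIso
      (((MonoidalCategory.tensorRight M).mapHomologicalComplex _).mapIso E) ≪≫ P ≪≫
    ((piReindex H ι (fun s => m + s.card) (fun p => m + (p.1 : ℕ)) fun s => rfl).trans
      (LinearEquiv.piCurry A (fun (j : Fin (ys.length + 1)) (_ : Fin (ys.length.choose j)) => (H (m + (j : ℕ)) : Type u)))).toModuleIso⟩

end Groth.Agent.H4Koszul
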