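import Mathlib.Algebra.Category.ModuleCat.Basic
import Mathlib.LinearAlgebra.Prod
import Mathlib.LinearAlgebra.Span.Basic
import Mathlib.CategoryTheory.Limits.Shapes.Pullback.IsPullback.Basic

/-!
# Cartesian squares of quotient maps of modules
-/

set_option autoImplicit false

universe u

open CategoryTheory CategoryTheory.Limits

namespace Groth.Agent.H4Koszul

theorem isPullback_of_bijective {A : Type u} [CommRing A] {P X Y W : ModuleCat.{u} A}
    (f : P ⟶ X) (g : P ⟶ Y) (h : X ⟶ W) (k : Y ⟶ W) (w : f ≫ h = g ≫ k)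
    (hinj : ∀ p, f.hom p = 0 → g.hom p = 0 → p = 0)
    (hsurj : ∀ x y, h.hom x = k.hom y → ∃ p, f.hom p = x ∧ g.hom p = y) : IsPullback f g h k := by
  let E : Submodule A (X × Y) := LinearMap.ker (h.hom ∘ₗ LinearMap.fst A X Y - k.hom ∘ₗ LinearMap.snd A X Y)
  have hE : ∀ z : X × Y, z ∈ E ↔ h.hom z.1 = k.hom z.2 := fun z => by simp [E, sub_eq_zero]
  have hw : ∀ p, (LinearMap.prod f.hom g.hom) p ∈ E := fun p => (hE _).2 congr($(w).hom p)
  let e : P ≃ₗ[A] E := LinearEquiv.ofBijective ((LinearMap.prod f.hom g.hom).codRestrict E hw)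
    ⟨(injective_iff_map_eq_zero _).2 fun p hp => hinj p (congrArg (fun z : E => z.1.1) hp)
        (congrArg (fun z : E => z.1.2) hp),
      fun z => by
        obtain ⟨p, hp1, hp2⟩ := hsurj z.1.1 z.1.2 ((hE _).1 z.2)
        exact ⟨p, Subtype.ext (Prod.ext hp1 hp2)⟩⟩
  refine IsPullback.of_isLimit' ⟨w⟩ (PullbackCone.IsLimit.mk w
    (fun s => ModuleCat.ofHom (e.symm.toLinearMap ∘ₗ
      (LinearMap.prod s.fst.hom s.snd.hom).codRestrict E fun z => (hE _).2 congr($(s.condition).hom z)))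
    (fun s => ?_) (fun s => ?_) fun s m h1 h2 => ?_)
  · ext z
    exact congrArg (fun t : E => t.1.1) (e.apply_symm_apply ⟨(s.fst.hom z, s.snd.hom z), (hE _).2 congr($(s.condition).hom z)⟩)
  · ext z
    exact congrArg (fun t : E => t.1.2) (e.apply_symm_apply ⟨(s.fst.hom z, s.snd.hom z), (hE _).2 congr($(s.condition).hom z)⟩)
  · ext z
    refine (e.eq_symm_apply).2 (Subtype.ext (Prod.ext ?_ ?_))
    · exact congr($(h1).hom z)
    · exact congr($(h2).hom z)

end Groth.Agent.H4Koszul
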