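import Groth.Agent.H8Props.PseudoCoh.Koszul

/-!
# The Koszul complex of a rescaled sequence
-/

set_option autoImplicit false
set_option linter.style.haveILetI false
universe u

open CategoryTheory CategoryTheory.Limits CochainComplex

namespace Groth.Agent.H4Koszul

variable {A : Type u} [CommRing A]

/-- The complex with all differentials multiplied by `x`. -/
noncomputable def scale (x : A) (K : CochainComplex (ModuleCat.{u} A) ℤ) : CochainComplex (ModuleCat.{u} A) ℤ where
  X := K.X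
  d i j := x • K.d i j
  shape i j h := by rw [K.shape i j h, smul_zero]
  d_comp_d' i j k _ _ := by rw [Linear.smul_comp, Linear.comp_smul, K.d_comp_d, smul_zero, smul_zero]

theorem fst_d {K : CochainComplex (ModuleCat.{u} A) ℤ} (φ : K ⟶ K) (i j k : ℤ) (hij : i + 1 = j) (hjk : j + 1 = k)
    (x : (mappingCone φ).X i) :
    ((mappingCone.fst φ).1.v j k hjk).hom ((mappingCone φ).d i j x) =
      - K.d j k (((mappingCone.fst φ).1.v i j hij).hom x) := by
  simpa using congrArg (fun g => g.hom x) (mappingCone.d_fst_v φ i j k hij hjk)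

theorem cone_scale {K K' : CochainComplex (ModuleCat.{u} A) ℤ} (x f : A) (e : K' ≅ scale x K) :
    Nonempty (mappingCone ((x * f) • 𝟙 K') ≅ scale x (mappingCone (f • 𝟙 K))) := by
  let φ' := (x * f) • 𝟙 K'
  let φ := f • 𝟙 K
  let ee : ∀ i : ℤ, K'.X i ≃ₗ[A] K.X i := fun i => (HomologicalComplex.Hom.isoApp e i).toLinearEquiv
  have hee : ∀ (i j : ℤ) (a : K'.X i), x • K.d i j (ee i a) = ee j (K'.d i j a) := fun i j a =>
    congr($(e.hom.comm i j).hom a)
  let c : ∀ i : ℤ, (mappingCone φ').X i ≃ₗ[A] (mappingCone φ).X i := fun i =>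
    (H8Props.PseudoCoh.coneXEquiv φ' i (i + 1) rfl).trans
      (((ee (i + 1)).prodCongr (ee i)).trans (H8Props.PseudoCoh.coneXEquiv φ i (i + 1) rfl).symm)
  refine ⟨HomologicalComplex.Hom.isoOfComponents
    (fun i => ((c i).toModuleIso : (mappingCone φ').X i ≅ (scale x (mappingCone φ)).X i)) ?_⟩
  rintro i j (hij : i + 1 = j)
  subst hij
  ext a
  have hc : ∀ (n : ℤ) (b : (mappingCone φ').X n),
      H8Props.PseudoCoh.coneXEquiv φ n (n + 1) rfl (c n b) =
        (ee (n + 1) (H8Props.PseudoCoh.coneXEquiv φ' n (n + 1) rfl b).1, ee n (H8Props.PseudoCoh.coneXEquiv φ' n (n + 1) rfl b).2) :=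
    fun n b => LinearEquiv.apply_symm_apply _ _
  apply (H8Props.PseudoCoh.coneXEquiv φ (i + 1) (i + 1 + 1) rfl).injective
  show H8Props.PseudoCoh.coneXEquiv φ _ _ _ (x • (mappingCone φ).d i (i + 1) (c i a)) =
    H8Props.PseudoCoh.coneXEquiv φ _ _ _ (c (i + 1) ((mappingCone φ').d i (i + 1) a))
  rw [map_smul, hc]
  have h1 := congrArg Prod.fst (hc i a)
  have h2 := congrArg Prod.snd (hc i a)
  simp only [H8Props.PseudoCoh.coneXEquiv, LinearEquiv.coe_ofLinearMap, LinearMap.prod_apply, Function.prod_apply] at h1 h2 ⊢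
  refine Prod.ext ?_ ?_
  · show x • ((mappingCone.fst φ).1.v (i + 1) (i + 1 + 1) rfl).hom ((mappingCone φ).d i (i + 1) (c i a)) = _
    rw [fst_d φ i (i + 1) (i + 1 + 1) rfl rfl, fst_d φ' i (i + 1) (i + 1 + 1) rfl rfl, h1, smul_neg, map_neg]
    exact congrArg Neg.neg (hee _ _ _)
  · show x • ((mappingCone.snd φ).v (i + 1) (i + 1) (add_zero _)).hom ((mappingCone φ).d i (i + 1) (c i a)) = _
    rw [H8Props.PseudoCoh.snd_d φ i (i + 1) rfl, H8Props.PseudoCoh.snd_d φ' i (i + 1) rfl, h1, h2, smul_add, map_add]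
    refine congrArg₂ (· + ·) ?_ (hee _ _ _)
    show x • f • ee (i + 1) _ = ee (i + 1) ((x * f) • _)
    rw [map_smul, smul_smul]
    rfl

theorem koszul_scale (x : A) : ∀ l : List A,
    Nonempty (Koszul.koszul A (l.map fun f => x * f) ≅ scale x (Koszul.koszul A l))
  | [] => ⟨HomologicalComplex.Hom.isoOfComponents (fun i => Iso.refl _) (fun i j _ => by
      have h : (Koszul.koszul A ([] : List A)).d i j = 0 := HomologicalComplex.single_obj_d _ _ _ _ _
      show 𝟙 _ ≫ (x • (Koszul.koszul A ([] : List A)).d i j) = _ ≫ 𝟙 _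
      rw [Category.id_comp, Category.comp_id]
      refine (smul_zero x |> fun z => (congrArg (x • ·) h).trans z).trans h.symm)⟩
  | f :: l => by
    obtain ⟨e⟩ := koszul_scale x l
    exact cone_scale x f e

theorem isSMulRegular_koszul {x : A} (hx : x ∈ nonZeroDivisors A) (l : List A) (i : ℤ) :
    IsSMulRegular ((Koszul.koszul A l).X i) x := by
  haveI := (H8Props.PseudoCoh.koszul_finite_free l i).2
  let b := Module.Free.chooseBasis A ((Koszul.koszul A l).X i)
  intro a a' h
  refine b.repr.injective (Finsupp.ext fun k => ?_)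
  have h2 := congrArg (fun z => b.repr z k) h
  simp only [map_smul, Finsupp.smul_apply, smul_eq_mul] at h2
  exact (mem_nonZeroDivisors_iff_right.1 hx) _ (show (b.repr a k - b.repr a' k) * x = 0 by rw [sub_mul, mul_comm, h2, mul_comm, sub_self]) |> sub_eq_zero.1

theorem homology_scale {x : A} (K : CochainComplex (ModuleCat.{u} A) ℤ) (q : ℤ)
    (hx : IsSMulRegular (K.X (q + 1)) x) :
    Nonempty ((scale x K).homology q ≅ ModuleCat.of A (LinearMap.ker (K.d q (q + 1)).hom ⧸
      Submodule.comap (LinearMap.ker (K.d q (q + 1)).hom).subtype (Ideal.span {x} • LinearMap.range (K.d (q - 1) q).hom))) := by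
  let Sc := (scale x K).sc' (q - 1) q (q + 1)
  have hk : LinearMap.ker Sc.g.hom = LinearMap.ker (K.d q (q + 1)).hom := by
    ext z
    show x • K.d q (q + 1) z = 0 ↔ K.d q (q + 1) z = 0
    exact ⟨fun h => hx (h.trans (smul_zero x).symm), fun h => by rw [h, smul_zero]⟩
  let e := Submodule.Quotient.equiv (LinearMap.range Sc.moduleCatToCycles)
    (Submodule.comap (LinearMap.ker (K.d q (q + 1)).hom).subtype (Ideal.span {x} • LinearMap.range (K.d (q - 1) q).hom))
    (LinearEquiv.ofEq _ _ hk) (by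
      ext z
      rw [Submodule.mem_comap, Submodule.ideal_span_singleton_smul, Submodule.mem_map]
      constructor
      · rintro ⟨_, ⟨w, rfl⟩, rfl⟩
        exact ⟨K.d (q - 1) q w, ⟨w, rfl⟩, rfl⟩
      · rintro ⟨_, ⟨w, rfl⟩, hw⟩
        exact ⟨Sc.moduleCatToCycles w, ⟨w, rfl⟩, Subtype.ext hw⟩)
  exact ⟨(scale x K).homologyIsoSc' (q - 1) q (q + 1) (by simp) (by simp) ≪≫ Sc.moduleCatHomologyIso ≪≫ e.toModuleIso⟩

end Groth.Agent.H4Koszul
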